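import Cfsg.Agent.H25.PC
import Cfsg.Agent.H15.M.M24

/-! Generated certificate: the 2-fusion system of M24 is simple. -/

set_option maxRecDepth 100000

namespace H25.SM24
open H16

noncomputable def Ws : List (List ℕ) := [[nat_lit 10, nat_lit 9, nat_lit 2, nat_lit 7, nat_lit 6, nat_lit 1, nat_lit 2, nat_lit 8, nat_lit 1, nat_lit 2, nat_lit 6, nat_lit 7, nat_lit 9, nat_lit 8, nat_lit 10],
  [nat_lit 6, nat_lit 7, nat_lit 6, nat_lit 0, nat_lit 8, nat_lit 2, nat_lit 3, nat_lit 9, nat_lit 10, nat_lit 9, nat_lit 8, nat_lit 1, nat_lit 3, nat_lit 5, nat_lit 8],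
  [nat_lit 9, nat_lit 8, nat_lit 6, nat_lit 1, nat_lit 4, nat_lit 1, nat_lit 7, nat_lit 6, nat_lit 1, nat_lit 8, nat_lit 3, nat_lit 9, nat_lit 8, nat_lit 1, nat_lit 4, nat_lit 10, nat_lit 9, nat_lit 8, nat_lit 1, nat_lit 2],
  [nat_lit 8, nat_lit 3, nat_lit 4, nat_lit 6, nat_lit 7, nat_lit 6, nat_lit 4, nat_lit 8, nat_lit 1, nat_lit 6, nat_lit 9, nat_lit 8, nat_lit 1, nat_lit 3, nat_lit 10, nat_lit 9, nat_lit 8, nat_lit 3],
  [nat_lit 6, nat_lit 5, nat_lit 7, nat_lit 6, nat_lit 2, nat_lit 6, nat_lit 5, nat_lit 8, nat_lit 3, nat_lit 9, nat_lit 8, nat_lit 3, nat_lit 10, nat_lit 9, nat_lit 8, nat_lit 1, nat_lit 6, nat_lit 4, nat_lit 10],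
  [nat_lit 7, nat_lit 4, nat_lit 6, nat_lit 1, nat_lit 7, nat_lit 6, nat_lit 3, nat_lit 8, nat_lit 0, nat_lit 3, nat_lit 6, nat_lit 9, nat_lit 8, nat_lit 1, nat_lit 10, nat_lit 9, nat_lit 8, nat_lit 1, nat_lit 6],
  [nat_lit 0, nat_lit 1, nat_lit 8, nat_lit 1, nat_lit 4, nat_lit 9, nat_lit 8, nat_lit 0, nat_lit 1],
  [nat_lit 9, nat_lit 6, nat_lit 1, nat_lit 3, nat_lit 4, nat_lit 8, nat_lit 2, nat_lit 9, nat_lit 8, nat_lit 0, nat_lit 3],
  [nat_lit 5, nat_lit 0, nat_lit 6, nat_lit 5, nat_lit 7, nat_lit 6, nat_lit 8, nat_lit 0, nat_lit 9, nat_lit 8, nat_lit 2, nat_lit 3, nat_lit 10, nat_lit 9, nat_lit 8],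
  [nat_lit 10, nat_lit 4, nat_lit 4, nat_lit 6, nat_lit 1, nat_lit 7, nat_lit 6, nat_lit 3, nat_lit 8, nat_lit 0, nat_lit 1, nat_lit 9, nat_lit 8, nat_lit 2, nat_lit 3, nat_lit 10]]
noncomputable def idx (i : ℕ) : ℕ := lk (nat_lit 0x18bdab49ca307b9ac5a928398a418820) (nat_lit 5) (nat_lit 31) (i)
noncomputable def Pd : List ℕ := [nat_lit 0x128859ca11399a15d9287ba951dd80, nat_lit 0x2c0229c95631da45c52873eec1d2a0, nat_lit 0xa41976ad5631e759446073c4149488, nat_lit 0x3b22668ea41167648560bd1d093d48, nat_lit 0x2c582426ca31c151c25373ee15d08d, nat_lit 0x7322f426a4a5c1618653288f05994d, nat_lit 0xba99404a1131d155d92d73ca118893, nat_lit 0xbb2341b6a47ba564040b398b098949, nat_lit 0x609c498e855440795d68b42a6485ed, nat_lit 0x850ea98ee2ab1a649568206cf945c0]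
noncomputable def P (k i : ℕ) : ℕ := lk (nth (nat_lit 0) Pd k) (nat_lit 5) (nat_lit 31) i
noncomputable def B : List ℕ := [nat_lit 23, nat_lit 0, nat_lit 1, nat_lit 2, nat_lit 3, nat_lit 5, nat_lit 4]
noncomputable def r (k j : ℕ) : ℕ := lk (nat_lit 0xc3d124011840120401800000f4a188581f0a060180e00000006a100401016010040000000004410050100401000000000000401005010040000000000000040100401000000000000000005010040000000000000000000401000000000000000000000040000000000000000000000) (nat_lit 9) (nat_lit 511) (Nat.add (Nat.mul k (nat_lit 10)) j)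
noncomputable def sq (c f : ℕ) : ℕ := lk (nat_lit 0x5965d75965d71c71861861c75d75965d75961861c71c71865145555555141451041451045555145145551041451041450000410000414d34924924d30410000410004924d34d34920000410410004d34924d34920410000000414924d34924d3baebeff3cf7dffffbeb2cb6dbefbaef7df3cfbefffb6db2cb2cb6dffffbef7df3cbefbaeb6db2cfbeffff3cf7dbaebef0000414924d34d34920000410410004d34924924d30410000000414d34924d34920410000410004924d34924d3000041cb2cb2861861c71c718e38e3cf3cf3820820c30c308a28a2cf3cf3861861c30c308e38e3cb2cb2820820c71c718a28a265965928a28a61861828a28a6186182cb2cb6596592cb2cb69a69a2082086db6db2082086db6db24924969a69a2492490820820c30c30410410410410c30c30820820000000000000c30c30c30c30000000410410820820820820410410000000c30c30820820820820820820820820c30c30c30c30c30c30000000000000410410000000410410410410000000410410410000000414104514104510410000000414104514104510000410000414514104104510000410000414514104104515965d75d75961451041451045965d75d75961451041451045555145555141861c71c71865555145555141861c71c71868a28e3c71c30cf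3cb28618208a28e3c71c30cf3cb28618208e38a2c71c30cb2cf38618208e38a2c71c30cb2cf386182034d30c79e7df79e7df30c34d34d30c79e7df79e7df30c34d38e3cf71c75d75d71c38e3cf38e3cf71c75d75d71c38e3cfe38e38aaaaaaefbefba28a28e38e38aaaaaaefbefba28a28efbefba28a28e38e38aaaaaaefbefba28a28e38e38aaaaaa4924920000004d34d30000004924920000004d34d30000004d34d30000004924920000004d34d30000004924920000000000000000000c30c30820820000000000000c30c30820820c30c30820820000000000000c30c3082082000000000000000000000000041041000000000000000000041041000000041041000000000000000000041041000000000000000000) (nat_lit 6) (nat_lit 63) (Nat.add (Nat.mul c (nat_lit 64)) f)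
noncomputable def nk (c f : ℕ) : ℕ := lk (nat_lit 0x1111111111111111111111111111111111111111111111111111111111111111111111111111111111111111111111111111111111111111111111111111111111111111111111111111111111111111111111111111111111111111111111111111111111111111111111111111111111111111111111111111111111111111222222222222222222222222222222222222222222222222222222222222222222222222222222222222222222222222222222222222222222222222222222222222222233333333222222223333333333333333222222223333333322222222222222223333444422222222333344443333444422222222333344442222222211111111111111111111111111111111111111111111111111111111111111111111111111111111111111111111111111111111111111111111111111111111111111111111111111111111111111111111111111111111111111111111111111111111111111111111111111111111111111111111111111111111111111112222222222222222222222222222222222222222222222222222222222222222222222222222222222222222222222222222222222222222222222222222222233333333222222223333333322222222222222223333333322222222333333333333888822222222333388882222222222222222333388992222222233338800)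 (nat_lit 4) (nat_lit 15) (Nat.add (Nat.mul c (nat_lit 2)) f)
noncomputable def fs : List (List ℕ) := [[nat_lit 512],
  [nat_lit 588],
  [nat_lit 980],
  [nat_lit 659],
  [nat_lit 469],
  [nat_lit 747]]

theorem simple {G Ω : Type*} [Group G] [Finite G] [MulAction G Ω] {g : ℕ → G} {pt : ℕ → Ω}
    (h : Mod g pt H15.MM24.P 24 11 H15.MM24.B) (hc : Nat.card G = 244823040) (S : Sylow 2 G) :
    (Cfsg.groupFusionSystem (S : Subgroup G)).IsSimple 2 := by
  have hs := h.res (n := 6 + 4) (Ws := Ws) (P' := P) (idx := idx) (N' := 24) (B' := B)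
    (by decide +kernel) (by decide +kernel)
  have hp := hs.pc (r := r) (by decide +kernel) (by decide +kernel)
  have hd := hs.pd hp (nk := nk) (sq := sq) (fs := fs) (by decide +kernel) (by decide +kernel)
    (by decide +kernel)
  refine PD.simple (d := 3) (o := 239085) hd (hc.trans (by norm_num)) (by decide) (fun T hT k0 => ?_)
    (cs := nth 0 [nat_lit 2, nat_lit 1, nat_lit 4]) (by decide +kernel) S
  have k1 := h.step (A' := [nat_lit 6]) hT k0 [nat_lit 3, nat_lit 10, nat_lit 0, nat_lit 6, nat_lit 1, nat_lit 7, nat_lit 6, nat_lit 1, nat_lit 8, nat_lit 0, nat_lit 2, nat_lit 9] (by decide +kernel)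
  have k2 := h.step (A' := [nat_lit 7]) hT k0 [nat_lit 0, nat_lit 7, nat_lit 6, nat_lit 4, nat_lit 2, nat_lit 10, nat_lit 9, nat_lit 8, nat_lit 1, nat_lit 2, nat_lit 0] (by decide +kernel)
  have k3 := h.step (A' := [nat_lit 2, nat_lit 4, nat_lit 6, nat_lit 9]) hT k0 [nat_lit 8, nat_lit 4, nat_lit 6, nat_lit 1, nat_lit 7, nat_lit 6, nat_lit 8, nat_lit 1, nat_lit 4] (by decide +kernel)
  have k4 := h.step (A' := [nat_lit 1, nat_lit 8, nat_lit 9]) hT k0 [nat_lit 5, nat_lit 6, nat_lit 4, nat_lit 7, nat_lit 6, nat_lit 2, nat_lit 8, nat_lit 2, nat_lit 9, nat_lit 8, nat_lit 2, nat_lit 4] (by decide +kernel)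
  have l0 := h.step (A' := pw 0 6 0 ++ [6 + 0]) hT k1 [] (by decide +kernel)
  have l1 := h.step (A' := pw 0 6 0 ++ [6 + 1]) hT k2 [] (by decide +kernel)
  have l2 := h.step (A' := pw 0 6 25 ++ [6 + 2]) hT (app_mem k1 (app_mem k3 k4)) [] (by decide +kernel)
  have l3 := h.step (A' := pw 0 6 20 ++ [6 + 3]) hT (app_mem k1 k3) [] (by decide +kernel)
  intro j hj
  interval_cases j
  exacts [⟨_, l0⟩, ⟨_, l1⟩, ⟨_, l2⟩, ⟨_, l3⟩]

end H25.SM24
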