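import Cfsg.Agent.H25.PC
import Cfsg.Agent.H15.M.HS

/-! Generated certificate: the 2-fusion system of HS is simple. -/

set_option maxRecDepth 100000

namespace H25.SHS
open H16

noncomputable def Ws : List (List ℕ) := [[nat_lit 3, nat_lit 1, nat_lit 3, nat_lit 0, nat_lit 1, nat_lit 0],
  [nat_lit 5, nat_lit 3, nat_lit 4, nat_lit 2, nat_lit 5, nat_lit 0, nat_lit 1, nat_lit 2, nat_lit 5, nat_lit 2, nat_lit 0, nat_lit 1],
  [nat_lit 5, nat_lit 2, nat_lit 0, nat_lit 3, nat_lit 5, nat_lit 2, nat_lit 4, nat_lit 1, nat_lit 3, nat_lit 2, nat_lit 5, nat_lit 0, nat_lit 1, nat_lit 0, nat_lit 2, nat_lit 1, nat_lit 3, nat_lit 0, nat_lit 2, nat_lit 4, nat_lit 0, nat_lit 1, nat_lit 2],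
  [nat_lit 5, nat_lit 0, nat_lit 4, nat_lit 2, nat_lit 0, nat_lit 3, nat_lit 5, nat_lit 2, nat_lit 4, nat_lit 1, nat_lit 3, nat_lit 2, nat_lit 5, nat_lit 0, nat_lit 2, nat_lit 1, nat_lit 3, nat_lit 0, nat_lit 2, nat_lit 4, nat_lit 1, nat_lit 3, nat_lit 2, nat_lit 1, nat_lit 0],
  [nat_lit 3, nat_lit 1, nat_lit 3],
  [nat_lit 4, nat_lit 3, nat_lit 0, nat_lit 2, nat_lit 5, nat_lit 0, nat_lit 1, nat_lit 2, nat_lit 5, nat_lit 0, nat_lit 1, nat_lit 3, nat_lit 1, nat_lit 2, nat_lit 0, nat_lit 1, nat_lit 2, nat_lit 0],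
  [nat_lit 5, nat_lit 3, nat_lit 0, nat_lit 1, nat_lit 2, nat_lit 1, nat_lit 4, nat_lit 1, nat_lit 3, nat_lit 2, nat_lit 5, nat_lit 1, nat_lit 0, nat_lit 3, nat_lit 0],
  [nat_lit 0, nat_lit 3, nat_lit 2, nat_lit 1, nat_lit 4, nat_lit 1, nat_lit 2, nat_lit 5, nat_lit 2, nat_lit 4, nat_lit 0, nat_lit 3, nat_lit 1, nat_lit 2, nat_lit 0, nat_lit 1, nat_lit 2, nat_lit 1],
  [nat_lit 4, nat_lit 2, nat_lit 5, nat_lit 1, nat_lit 4, nat_lit 1, nat_lit 3, nat_lit 2, nat_lit 5, nat_lit 4, nat_lit 1, nat_lit 3, nat_lit 2, nat_lit 1, nat_lit 0]]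
noncomputable def idx (i : ℕ) : ℕ := lk (nat_lit 0x64bd3a6c478e9cb568c15a74684b15203c5060a0c080) (nat_lit 7) (nat_lit 127) (i)
noncomputable def Pd : List ℕ := [nat_lit 0xbd894808335b1ae7a8e64a0b51ca20, nat_lit 0xb5ea380a337b14e5b4e849804a4825, nat_lit 0x16aa4ba2778a9258e0899ae46b036, nat_lit 0x2816a14cd2a9c69251d1606ef6c116, nat_lit 0xbdaa3988305b14e7b528398a4a4a20, nat_lit 0xb5d143b1698c9a20aa64854061b9e5, nat_lit 0x536a014c327a6e75d986722842c223, nat_lit 0x1d2a574d6c0a6c78dc4692144041ed, nat_lit 0x534f67d44b71808614338c069b9254]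
noncomputable def P (k i : ℕ) : ℕ := lk (nth (nat_lit 0) Pd k) (nat_lit 5) (nat_lit 31) i
noncomputable def B : List ℕ := [nat_lit 0, nat_lit 22, nat_lit 1, nat_lit 2, nat_lit 3]
noncomputable def r (k j : ℕ) : ℕ := lk (nat_lit 0x2b86600838200f282a00045027162f02060500000221100a060003000000011108050300000000000009040201000000000001070300000000000000020003000000000000000001000000000000000000) (nat_lit 8) (nat_lit 255) (Nat.add (Nat.mul k (nat_lit 9)) j)
noncomputable def sq (c f : ℕ) : ℕ := lk (nat_lit 0xffffbe7df79e71c75dfbeffff3cf7d71c75d79e7dff3cf7df3cf7d71c75d79e7dff3cf7dffffbe7df79e71c75dfbefff0410008a28e38618200000410000418e38a28618200000410410008a28e38208610410000000418e38a28208610410000410008a28e30410008618200000418e38a20410008618200410008a28e30000418208610000418e38a2000041820861208249a69a28208249aaaaeb2cb28aaaaaeb28a2cba28a692cb28aaaaaeb28a2cba28a69208249a69a28208249aaaaebcb2cb2cb2cb24d34d3451451cf3cf3cf3cf34d34d3451451cb2cb2cb2cb2492492410410cf3cf3cf3cf34924924104109249249249241861861041049e79e79e79e71041041861869e79e79e79e71041041861869249249249241861861041040c30c30c30c30000000820820000000000000820820000000000000000000820820000000c30c30c30c30000000820820000000000000c30c30410410410410410410c30c3041041000000000000082082000000041041041041082082000000)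 (nat_lit 6) (nat_lit 63) (Nat.add (Nat.mul c (nat_lit 64)) f)
noncomputable def nk (c f : ℕ) : ℕ := lk (nat_lit 0x11111111111111111111111111111111111111111111111111111111111111111111111111111111111111111111111111111111111111111111111111111111111111111111111111111111111111111111111111111111111111111111111111111111111111111111111111111111111111111111111111111111111111112222222233333333222222223333333322222222333333332222222233333333222222223333333322222222333333332222222233333333222222223333333322222222333344442222222233333333222222223333333322222222333344442222222233336666222222223333333322222222333333332222222233338800) (nat_lit 4) (nat_lit 15) (Nat.add (Nat.mul c (nat_lit 2)) f)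
noncomputable def fs : List (List ℕ) := [[nat_lit 43],
  [nat_lit 66],
  [nat_lit 130],
  [nat_lit 262],
  [nat_lit 192],
  [nat_lit 369]]


theorem simple {G Ω : Type*} [Group G] [Finite G] [MulAction G Ω] {g : ℕ → G} {pt : ℕ → Ω}
    (h : Mod g pt H15.HS.P 100 6 H15.HS.B) (hc : Nat.card G = 44352000) (S : Sylow 2 G) :
    (Cfsg.groupFusionSystem (S : Subgroup G)).IsSimple 2 := by
  have hs := h.res (n := 6 + 3) (Ws := Ws) (P' := P) (idx := idx) (N' := 24) (B' := B)
    (by decide +kernel) (by decide +kernel)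
  have hp := hs.pc (r := r) (by decide +kernel) (by decide +kernel)
  have hd := hs.pd hp (nk := nk) (sq := sq) (fs := fs) (by decide +kernel) (by decide +kernel)
    (by decide +kernel)
  refine PD.simple (d := 2) (o := 86625) hd (hc.trans (by norm_num)) (by decide) (fun T hT k0 => ?_)
    (cs := nth 0 [nat_lit 1, nat_lit 4]) (by decide +kernel) S
  have k1 := h.step (A' := [nat_lit 0, nat_lit 1, nat_lit 2, nat_lit 3, nat_lit 5, nat_lit 6]) hT k0 [nat_lit 2, nat_lit 4, nat_lit 0, nat_lit 2, nat_lit 1, nat_lit 4, nat_lit 1, nat_lit 2, nat_lit 5, nat_lit 2, nat_lit 1, nat_lit 3, nat_lit 1, nat_lit 2] (by decide +kernel)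
  have k2 := h.step (A' := [nat_lit 2, nat_lit 3, nat_lit 4, nat_lit 7, nat_lit 8]) hT k0 [nat_lit 0, nat_lit 1, nat_lit 2, nat_lit 4, nat_lit 1, nat_lit 0, nat_lit 1, nat_lit 0, nat_lit 2, nat_lit 0, nat_lit 1] (by decide +kernel)
  have k3 := h.step (A' := [nat_lit 1, nat_lit 2, nat_lit 4, nat_lit 5, nat_lit 6, nat_lit 7]) hT (app_mem k1 k2) [nat_lit 1, nat_lit 4, nat_lit 3, nat_lit 1, nat_lit 4, nat_lit 2, nat_lit 5, nat_lit 4, nat_lit 1, nat_lit 2, nat_lit 4, nat_lit 0, nat_lit 2, nat_lit 1, nat_lit 0, nat_lit 3, nat_lit 2, nat_lit 0, nat_lit 1, nat_lit 0, nat_lit 2, nat_lit 0, nat_lit 1, nat_lit 0] (by decide +kernel)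
  have l0 := h.step (A' := pw 0 6 47 ++ [6 + 0]) hT k1 [] (by decide +kernel)
  have l1 := h.step (A' := pw 0 6 27 ++ [6 + 1]) hT (app_mem k1 k3) [] (by decide +kernel)
  have l2 := h.step (A' := pw 0 6 49 ++ [6 + 2]) hT (app_mem k1 (app_mem k2 k3)) [] (by decide +kernel)
  intro j hj
  interval_cases j
  exacts [⟨_, l0⟩, ⟨_, l1⟩, ⟨_, l2⟩]

end H25.SHS
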