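import Cfsg.Agent.H25.PC
import Cfsg.Agent.H16.P.He.D

/-! Generated certificate: the 2-fusion system of He is simple. -/

set_option maxRecDepth 100000

namespace H25.SHe
open H16

noncomputable def Ws : List (List ℕ) := [[nat_lit 4, nat_lit 1, nat_lit 6, nat_lit 2, nat_lit 4, nat_lit 0, nat_lit 1, nat_lit 3, nat_lit 0, nat_lit 4, nat_lit 2, nat_lit 6],
  [nat_lit 5, nat_lit 0, nat_lit 3, nat_lit 0, nat_lit 2, nat_lit 1, nat_lit 6, nat_lit 4, nat_lit 0, nat_lit 4, nat_lit 6, nat_lit 2, nat_lit 0, nat_lit 3, nat_lit 6, nat_lit 0, nat_lit 4, nat_lit 0, nat_lit 2, nat_lit 0, nat_lit 4, nat_lit 6, nat_lit 0, nat_lit 1, nat_lit 4, nat_lit 3, nat_lit 0, nat_lit 4, nat_lit 1, nat_lit 0, nat_lit 1, nat_lit 4, nat_lit 0, nat_lit 4, nat_lit 3, nat_lit 0],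
  [nat_lit 0, nat_lit 6, nat_lit 4, nat_lit 0, nat_lit 2, nat_lit 0, nat_lit 4, nat_lit 5, nat_lit 6, nat_lit 0, nat_lit 3, nat_lit 1, nat_lit 0, nat_lit 4, nat_lit 1, nat_lit 0, nat_lit 2, nat_lit 1, nat_lit 6, nat_lit 4, nat_lit 0, nat_lit 4, nat_lit 6, nat_lit 2, nat_lit 0, nat_lit 3, nat_lit 6, nat_lit 0, nat_lit 4, nat_lit 0, nat_lit 2, nat_lit 0, nat_lit 4, nat_lit 5, nat_lit 6, nat_lit 3],
  [nat_lit 0, nat_lit 2, nat_lit 3, nat_lit 0, nat_lit 4, nat_lit 1, nat_lit 4, nat_lit 0, nat_lit 4, nat_lit 0, nat_lit 6, nat_lit 4, nat_lit 0, nat_lit 2, nat_lit 0, nat_lit 4, nat_lit 5, nat_lit 6, nat_lit 0, nat_lit 4, nat_lit 3, nat_lit 5, nat_lit 3, nat_lit 4, nat_lit 0, nat_lit 1, nat_lit 4, nat_lit 2, nat_lit 0, nat_lit 1, nat_lit 4, nat_lit 6, nat_lit 4, nat_lit 2, nat_lit 0, nat_lit 4, nat_lit 0, nat_lit 3, nat_lit 6, nat_lit 4, nat_lit 0, nat_lit 3],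
  [nat_lit 1, nat_lit 0, nat_lit 2, nat_lit 6, nat_lit 1, nat_lit 3, nat_lit 5, nat_lit 0, nat_lit 1, nat_lit 3, nat_lit 5, nat_lit 2, nat_lit 6, nat_lit 4, nat_lit 0, nat_lit 4, nat_lit 6, nat_lit 2, nat_lit 1, nat_lit 0, nat_lit 4, nat_lit 0, nat_lit 4, nat_lit 1, nat_lit 0, nat_lit 2, nat_lit 0, nat_lit 4, nat_lit 0, nat_lit 3, nat_lit 6, nat_lit 4, nat_lit 0, nat_lit 2, nat_lit 0, nat_lit 6, nat_lit 4, nat_lit 2, nat_lit 0, nat_lit 3, nat_lit 4, nat_lit 0],
  [nat_lit 6, nat_lit 1, nat_lit 3, nat_lit 5, nat_lit 2, nat_lit 6, nat_lit 4, nat_lit 0, nat_lit 4, nat_lit 6, nat_lit 2, nat_lit 3, nat_lit 0, nat_lit 4, nat_lit 0, nat_lit 1, nat_lit 3, nat_lit 4, nat_lit 0, nat_lit 3, nat_lit 6, nat_lit 4, nat_lit 0, nat_lit 1, nat_lit 2, nat_lit 6, nat_lit 4, nat_lit 0, nat_lit 4, nat_lit 6, nat_lit 0, nat_lit 4, nat_lit 0, nat_lit 2, nat_lit 6, nat_lit 4, nat_lit 0, nat_lit 2, nat_lit 6, nat_lit 4, nat_lit 0, nat_lit 4, nat_lit 6, nat_lit 4, nat_lit 0, nat_lit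 1],
  [nat_lit 1, nat_lit 0, nat_lit 0, nat_lit 2, nat_lit 6, nat_lit 4, nat_lit 0, nat_lit 2, nat_lit 0, nat_lit 4, nat_lit 0, nat_lit 5, nat_lit 6, nat_lit 4, nat_lit 0, nat_lit 3, nat_lit 4, nat_lit 0, nat_lit 6, nat_lit 4, nat_lit 0, nat_lit 1, nat_lit 6, nat_lit 4, nat_lit 0, nat_lit 4, nat_lit 6, nat_lit 4, nat_lit 0, nat_lit 3, nat_lit 6, nat_lit 4, nat_lit 0, nat_lit 1],
  [nat_lit 2, nat_lit 6, nat_lit 4, nat_lit 0, nat_lit 4, nat_lit 6, nat_lit 2, nat_lit 4],
  [nat_lit 1, nat_lit 6, nat_lit 4, nat_lit 0, nat_lit 1, nat_lit 4, nat_lit 0, nat_lit 3, nat_lit 2, nat_lit 0, nat_lit 6, nat_lit 4, nat_lit 0, nat_lit 3, nat_lit 2, nat_lit 0, nat_lit 1, nat_lit 6, nat_lit 4, nat_lit 2, nat_lit 0, nat_lit 4, nat_lit 6],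
  [nat_lit 4, nat_lit 2, nat_lit 5, nat_lit 6, nat_lit 4, nat_lit 0, nat_lit 4, nat_lit 6, nat_lit 2, nat_lit 0, nat_lit 3, nat_lit 4, nat_lit 0, nat_lit 1, nat_lit 4, nat_lit 0, nat_lit 3, nat_lit 2, nat_lit 0, nat_lit 1, nat_lit 2, nat_lit 0, nat_lit 6, nat_lit 4, nat_lit 2, nat_lit 0, nat_lit 1, nat_lit 2, nat_lit 4, nat_lit 6]]
noncomputable def idx (i : ℕ) : ℕ := lk (nat_lit 0x80a7f87f47f17a175f74b74372f6da6226035d65d35c85c55394b449448646e4684423db3d43d13b73b43b337e37336d31b31a2fa2ed2e42c329e27427226f26e25e25c23322c22b22a2251eb1ea1e01da1d61cc1ca1c41b119417a15315213613212f12d12a1261240f40c10bf0bd0bc0bb0a307a07907807707606e06404b04a04904704002b000) (nat_lit 12) (nat_lit 0xfff) (i)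
noncomputable def Pd : List ℕ := [nat_lit 0x407052874b9939f3a934a253a95a7a78ee62cd867d91d5d45e9e55423386e810b3690559658fd6af62ece19906d1904a89ab684f20294c494132ac0b9430684a417541841e148d9b00450c1b5c300, nat_lit 0x10e114c3d1ad12a27733674a7d3233a6f256d27a14231032e1ac39227a28ed5b031a320253c1a2bc3aa5512a04d8172ce102114bd5bb3064d1b488c8144ca079523619b2127c5d7aaba1416965f80, nat_lit 0x1f4c963a5020e7844fa0f17d8af55d397a9e2ac6e65fa983663ce63264388694b1b4cb9da19ac96c454ae01f8ccdb1140898235148e1d682a10d16d479406152092b58c012e68851a6109062750600, nat_lit 0x2ad7b0faccc967252772a5554a74633a8725c3b8ecc61e0d59b9d89227c57a4479f8411795620512b5936726a0a082348b45896901e523260d9a2c5d814244db256a202c1420d00e04fc6b2141d700, nat_lit 0x2ad7b0faccc967254690a5554a7453cf6f416bb7ad009e095a19d88e5d228e245c23e1979762322ab593671b926522520e07916701e52504d3126054b143461023422052e6a35b0e04c81bf0a1e080, nat_lit 0x10e11303be94a65cfa071dd6a34dd466f216aa7a1609e7f5219d9b253a28e245831ac979562ba2ab591291a726082348e07911501e4e26a09262c5d8143665025436198c6a7db57aa1a1046964080,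 nat_lit 0x221c54ae73c58f8eb25d4652f3cc5f8c701a3d6448e355910168799040b78a2819660e6ca8ae9e182114e58b084531336f46854b6075412d47a02464d146c861186748acf6840fcd53412492eedd00, nat_lit 0x159e5ea4ec49d31dd09f4e5d29a724b96e9d1547a8570e64aa187a2ea42d8eccfa06cfc419af05c02b2fab168c9531337161346b62aca465d81034a091448541980b00484142c6b1780478c22b0300, nat_lit 0x28d3a95eb55b276c2773015881c0a350453e3b15a4e0bb7e1e2c459224c37040b9234c94a0a4b9bce38bde1f74cda8f42f4aa4313551e682a10d12d8894061518b61294042c992be9804d8c332c300, nat_lit 0x1089408c597606c80c0298c162a943325afde9344ae80d9291c0a24117378a1c72f58e9a4b3f3e1c2666944e82a68d67d1ead86214199393692a9952980771014a103cf27b276bb5231a04878d9c94]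
noncomputable def P (k i : ℕ) : ℕ := lk (nth (nat_lit 0) Pd k) (nat_lit 7) (nat_lit 127) i
noncomputable def B : List ℕ := [nat_lit 0, nat_lit 1, nat_lit 13, nat_lit 69, nat_lit 25, nat_lit 5, nat_lit 6]
noncomputable def r (k j : ℕ) : ℕ := lk (nat_lit 0x442d44471d864000705824000b5010c561a01010100a000000077100083404080040000000306a1607008080d000000000000401004010040000000000000040140401000000000000000005010040000000000000000000601000000000000000000000040000000000000000000000) (nat_lit 9) (nat_lit 511) (Nat.add (Nat.mul k (nat_lit 10)) j)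
noncomputable def sq (c f : ℕ) : ℕ := lk (nat_lit 0xdb6beff7d965befdb6965f7dbaedf7924f3cdf7baef3c924f3c965df7bef965f3cbefdf7924f7dbaedb6f7d924db6bae4d30004d30410414920004920004d30414d34920414920000004d30004924920414d30414d30004920000414920414d30412cb2cb0002cb0410002cb28a00004128a00028a28a04128a0000002cb00028a2cb0000412cb28a0412cb04104128a4924d34924924924d34d34d34d34924924924d34924d34d304100004104104100000000000004104104100004100000014575d14571c75d14571c14571c10475d10410471c10475d3cf5d73cf5965d73cf5963cf59638e5d738e38e59638e5d7ebaa28c718a2a69efb8e3c30a28eba8a2c71efba69c308e3a69efb8a2c71ebaa28c308e3efba69c718a2a28eba8e3c3028a04128a00004128a00028a0002cb0412cb2cb0002cb04104128a0412cb28a0412cb0412cb00028a0000002cb00028a4104106db69a4514516db69a41041069a6db45145169a6db0c30c32082490820822082490c30c3249208082082249208659041618041000618000659000618000659659041618041000618041618659041659000659041659000000618041618e79aebcf3820aebe79820cf3aebe79820cf3e79aebcf3820e7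9aebcf3820aebe79820cf3aebe79820cf3e79aebcf382059671c5d771c75d5d775d59675d5d775d59659671c5d771c3cf14538e14510438e1043cf10438e1043cf3cf14538e14500000028a2cb0000002cb28a0000002cb28a00000028a2cb00000028a2cb0000002cb28a0000002cb28a00000028a2cb8a2efba69c71eba8e3c30a28eba8e3c30a288a2efba69c71efb8a2c30a288e3ebaa69c718e3ebaa69c71efb8a2c30a284d30004920000004d30004920004d30004924d30004920004d30004920000004d30004920004d30004924d300049200055579e7df5557df51451479e7df51451479e55579e7df55530c1c718630c18634d34d1c718634d34d1c730c1c718630c041000000000000041000000000041000000041000000000041000000000000041000000000041000000041000000000) (nat_lit 6) (nat_lit 63) (Nat.add (Nat.mul c (nat_lit 64)) f)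
noncomputable def nk (c f : ℕ) : ℕ := lk (nat_lit 0x1111111111111111111111111111111111111111111111111111111111111111111111111111111111111111111111111111111111111111111111111111111111111111111111111111111111111111111111111111111111111111111111111111332211112233111122331111332211113322111122331111223311113322111111111111111111111111111111111111111111111111111111111111111111111111111111111111111111111111111111111111111111111111111111111111111111111111111111111111111111111111111111111111111111111111222211112222111122221111222211112222111122221111222211112222111111111111111111111111111111111111111111111111111111111111111111111111111111111111111111111111111111111111111111111111111111111111111111111111111111111111111111111111111111111111111111111111111122221111222211112222111122221111222211112222111122221111222211111111111111111111111111111111111111111111111111111111111111111111111111111111111111111111111111111111111111111111111111111111111111111111111111111111111111111111111111111111111111111111111111111111226611116622111166221111226611112299111166221111662211112200)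 (nat_lit 4) (nat_lit 15) (Nat.add (Nat.mul c (nat_lit 2)) f)
noncomputable def fs : List (List ℕ) := [[nat_lit 933],
  [nat_lit 516],
  [nat_lit 749],
  [nat_lit 512],
  [nat_lit 557],
  [nat_lit 395]]


theorem simple {G Ω : Type*} [Group G] [Finite G] [MulAction G Ω] {g : ℕ → G} {pt : ℕ → Ω}
    (h : Mod g pt H16.PHe.P 2058 7 H16.PHe.B) (hc : Nat.card G = 4030387200) (S : Sylow 2 G) :
    (Cfsg.groupFusionSystem (S : Subgroup G)).IsSimple 2 := by
  have hs := h.res (n := 6 + 4) (Ws := Ws) (P' := P) (idx := idx) (N' := 90) (B' := B)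
    (by decide +kernel) (by decide +kernel)
  have hp := hs.pc (r := r) (by decide +kernel) (by decide +kernel)
  have hd := hs.pd hp (nk := nk) (sq := sq) (fs := fs) (by decide +kernel) (by decide +kernel)
    (by decide +kernel)
  refine PD.simple (d := 3) (o := 3935925) hd (hc.trans (by norm_num)) (by decide) (fun T hT k0 => ?_)
    (cs := nth 0 [nat_lit 1, nat_lit 4, nat_lit 2]) (by decide +kernel) S
  have k1 := h.step (A' := [nat_lit 1, nat_lit 2, nat_lit 3, nat_lit 4, nat_lit 5, nat_lit 8]) hT k0 [nat_lit 0, nat_lit 1, nat_lit 3, nat_lit 5, nat_lit 0, nat_lit 6, nat_lit 5, nat_lit 6, nat_lit 1, nat_lit 4, nat_lit 0, nat_lit 1, nat_lit 4, nat_lit 0, nat_lit 4, nat_lit 0, nat_lit 5] (by decide +kernel)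
  have k2 := h.step (A' := [nat_lit 0, nat_lit 3, nat_lit 4, nat_lit 5, nat_lit 6, nat_lit 8, nat_lit 9]) hT k0 [nat_lit 1, nat_lit 3, nat_lit 5, nat_lit 0, nat_lit 6, nat_lit 4, nat_lit 0, nat_lit 2, nat_lit 0, nat_lit 4, nat_lit 6, nat_lit 1, nat_lit 4, nat_lit 0, nat_lit 4, nat_lit 0, nat_lit 4, nat_lit 2, nat_lit 0, nat_lit 6, nat_lit 4, nat_lit 0, nat_lit 6, nat_lit 4, nat_lit 0, nat_lit 1, nat_lit 6, nat_lit 4, nat_lit 0, nat_lit 4, nat_lit 6, nat_lit 4, nat_lit 0, nat_lit 3, nat_lit 0] (by decide +kernel)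
  have k3 := h.step (A' := [nat_lit 0, nat_lit 4, nat_lit 8, nat_lit 9]) hT k0 [nat_lit 4, nat_lit 0, nat_lit 2, nat_lit 0, nat_lit 4, nat_lit 5, nat_lit 6, nat_lit 0, nat_lit 2, nat_lit 6, nat_lit 4, nat_lit 0, nat_lit 4, nat_lit 6, nat_lit 2, nat_lit 3, nat_lit 4, nat_lit 0, nat_lit 2, nat_lit 0, nat_lit 4, nat_lit 0, nat_lit 6, nat_lit 4, nat_lit 0, nat_lit 6, nat_lit 2, nat_lit 0, nat_lit 4, nat_lit 0, nat_lit 2] (by decide +kernel)
  have k4 := h.step (A' := [nat_lit 0, nat_lit 2, nat_lit 7]) hT k0 [nat_lit 0, nat_lit 3, nat_lit 1, nat_lit 4, nat_lit 3, nat_lit 0, nat_lit 3, nat_lit 4, nat_lit 0, nat_lit 3, nat_lit 2, nat_lit 6, nat_lit 4, nat_lit 0, nat_lit 4, nat_lit 6, nat_lit 2, nat_lit 4, nat_lit 3, nat_lit 0, nat_lit 4, nat_lit 1, nat_lit 0, nat_lit 4, nat_lit 0, nat_lit 6, nat_lit 5, nat_lit 6, nat_lit 1, nat_lit 0, nat_lit 4, nat_lit 0] (by decide +kernel)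
  have l0 := h.step (A' := pw 0 6 34 ++ [6 + 0]) hT (app_mem k2 k3) [] (by decide +kernel)
  have l1 := h.step (A' := pw 0 6 5 ++ [6 + 1]) hT k4 [] (by decide +kernel)
  have l2 := h.step (A' := pw 0 6 62 ++ [6 + 2]) hT k1 [] (by decide +kernel)
  have l3 := h.step (A' := pw 0 6 36 ++ [6 + 3]) hT (app_mem k1 k3) [] (by decide +kernel)
  intro j hj
  interval_cases j
  exacts [⟨_, l0⟩, ⟨_, l1⟩, ⟨_, l2⟩, ⟨_, l3⟩]

end H25.SHe
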