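import Cfsg.Agent.H25.PC
import Cfsg.Agent.H15.M.Co3

/-! Generated certificate: the 2-fusion system of Co3 is simple. -/

set_option maxRecDepth 100000

namespace H25.SCo3
open H16

noncomputable def Ws : List (List ℕ) := [[nat_lit 3, nat_lit 2, nat_lit 5, nat_lit 2, nat_lit 0, nat_lit 2, nat_lit 3, nat_lit 4, nat_lit 5, nat_lit 3, nat_lit 4, nat_lit 0, nat_lit 2, nat_lit 0, nat_lit 2, nat_lit 0, nat_lit 2, nat_lit 3, nat_lit 4, nat_lit 0, nat_lit 2, nat_lit 0, nat_lit 2, nat_lit 0, nat_lit 2, nat_lit 3, nat_lit 0, nat_lit 1, nat_lit 0],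
  [nat_lit 3, nat_lit 5, nat_lit 1, nat_lit 2, nat_lit 6, nat_lit 5, nat_lit 4, nat_lit 3, nat_lit 2, nat_lit 0, nat_lit 2, nat_lit 3, nat_lit 4, nat_lit 5, nat_lit 6, nat_lit 4, nat_lit 5, nat_lit 3, nat_lit 2, nat_lit 1, nat_lit 2, nat_lit 3, nat_lit 4, nat_lit 5, nat_lit 3, nat_lit 2, nat_lit 1, nat_lit 2, nat_lit 3, nat_lit 4, nat_lit 3, nat_lit 2, nat_lit 0, nat_lit 2, nat_lit 3, nat_lit 1, nat_lit 2, nat_lit 0, nat_lit 1],
  [nat_lit 3, nat_lit 2, nat_lit 5, nat_lit 2, nat_lit 0, nat_lit 2, nat_lit 3, nat_lit 4, nat_lit 0, nat_lit 2, nat_lit 0, nat_lit 2, nat_lit 3, nat_lit 2, nat_lit 0, nat_lit 2, nat_lit 0, nat_lit 2],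
  [nat_lit 3, nat_lit 0, nat_lit 2, nat_lit 0, nat_lit 2, nat_lit 1, nat_lit 2, nat_lit 3, nat_lit 2, nat_lit 1, nat_lit 2, nat_lit 1, nat_lit 0, nat_lit 2, nat_lit 0, nat_lit 2, nat_lit 0],
  [nat_lit 1, nat_lit 4, nat_lit 2, nat_lit 5, nat_lit 3, nat_lit 4, nat_lit 2, nat_lit 3, nat_lit 0, nat_lit 2, nat_lit 0, nat_lit 2, nat_lit 3, nat_lit 4, nat_lit 5, nat_lit 6, nat_lit 5, nat_lit 4, nat_lit 3, nat_lit 1, nat_lit 2, nat_lit 1, nat_lit 2, nat_lit 3, nat_lit 4, nat_lit 5, nat_lit 3, nat_lit 2, nat_lit 3, nat_lit 4, nat_lit 0, nat_lit 2, nat_lit 3, nat_lit 2, nat_lit 0, nat_lit 2, nat_lit 0],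
  [nat_lit 5, nat_lit 3, nat_lit 4, nat_lit 2, nat_lit 3, nat_lit 1, nat_lit 2, nat_lit 0, nat_lit 2, nat_lit 3, nat_lit 4, nat_lit 5, nat_lit 4, nat_lit 3, nat_lit 0, nat_lit 2, nat_lit 0, nat_lit 2, nat_lit 3, nat_lit 4, nat_lit 3, nat_lit 2, nat_lit 3, nat_lit 2, nat_lit 3, nat_lit 2, nat_lit 0, nat_lit 2, nat_lit 0, nat_lit 2, nat_lit 1, nat_lit 2, nat_lit 0],
  [nat_lit 4, nat_lit 1, nat_lit 6, nat_lit 5, nat_lit 4, nat_lit 3, nat_lit 2, nat_lit 6, nat_lit 0, nat_lit 2, nat_lit 3, nat_lit 4, nat_lit 5, nat_lit 6, nat_lit 3, nat_lit 4, nat_lit 2, nat_lit 0, nat_lit 2, nat_lit 3, nat_lit 4, nat_lit 5, nat_lit 2, nat_lit 0, nat_lit 2, nat_lit 1, nat_lit 2, nat_lit 3, nat_lit 4, nat_lit 0, nat_lit 1, nat_lit 2, nat_lit 0, nat_lit 2],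
  [nat_lit 4, nat_lit 2, nat_lit 0, nat_lit 2, nat_lit 0, nat_lit 2, nat_lit 3, nat_lit 4, nat_lit 5, nat_lit 4, nat_lit 1, nat_lit 0, nat_lit 2, nat_lit 0, nat_lit 2, nat_lit 3, nat_lit 4, nat_lit 2, nat_lit 1, nat_lit 2, nat_lit 1, nat_lit 0, nat_lit 2, nat_lit 0, nat_lit 2, nat_lit 1],
  [nat_lit 3, nat_lit 2, nat_lit 4, nat_lit 5, nat_lit 2, nat_lit 1, nat_lit 2, nat_lit 3, nat_lit 4, nat_lit 5, nat_lit 6, nat_lit 5, nat_lit 2, nat_lit 4, nat_lit 3, nat_lit 2, nat_lit 0, nat_lit 2, nat_lit 3, nat_lit 4, nat_lit 5, nat_lit 3, nat_lit 0, nat_lit 2, nat_lit 1, nat_lit 2, nat_lit 3, nat_lit 4, nat_lit 2, nat_lit 1, nat_lit 2, nat_lit 0, nat_lit 2, nat_lit 3, nat_lit 0, nat_lit 2, nat_lit 0],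
  [nat_lit 4, nat_lit 2, nat_lit 3, nat_lit 4, nat_lit 5, nat_lit 1, nat_lit 0, nat_lit 2, nat_lit 0, nat_lit 2, nat_lit 0, nat_lit 2, nat_lit 3, nat_lit 4, nat_lit 1, nat_lit 2, nat_lit 1, nat_lit 2, nat_lit 3, nat_lit 2, nat_lit 3, nat_lit 0]]
noncomputable def idx (i : ℕ) : ℕ := lk (nat_lit 0x1148743617047f3f1f6f87bbd5e6ee7539dcae4713659ac561add66af53a95409e4b255208f461f8f6783a9c4de6d3599ccc602e1489a44218f8602f1689c46220f87834190b8340c04018080200) (nat_lit 9) (nat_lit 511) (i)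
noncomputable def Pd : List ℕ := [nat_lit 0x7a1531c286e1bc76d563862d9d0c6665bb05eb85392e24a902504f2406851203e940c07c1990756594bf269c1281e386b416b5508306a1044644e80, nat_lit 0x528833f8030ab34041c883a4d41b78640a41e116ac56461b524692b007082bb1a79b9468999072e01e9c6c9d53a5e2cfbe1c2813831050ae4625896, nat_lit 0x2a6909480d14bc5c40c88542d41b66e44a45eec3b24ec61ba2e891b03d053043e0c13f181562d2459e9c1caceb51e4c6be6c61bb815083204a04880, nat_lit 0x861531c28f9e8d08d5ca46e2dd343ec98885e8052c56a94904f04f38068512e6694ec03618c872e58abf1c488a81e4de0c6cb44b0306a13b4608080, nat_lit 0x7c1913f38f4db610a13a03af0815265c0841e903926445a3558851ae3c9a0b81c0d89487095ad320064066e44ba5e7c5a91a6013b1414d304aa9b96, nat_lit 0x52691107430a8b70516043af1f9b1cc80a05ec12b92e461c04e8453b309a08826b5ba86814c835659eb5664951c1e7db3e1a7812e47083240e25880, nat_lit 0x54ea01a4cc44881685c8d688111d70486332c4cf2c56a48c264716bc464140e4828d866e513982e3c141766618500118015c94a9f0efdab606f5f2f, nat_lit 0x471a8542048a0669959368220b776c860b1e35297725448624e968e4651fbc0828dc23a40c875859522709de9a5e9173160794b630a201f070df00,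 nat_lit 0x430da1d62991386ca8c1f80b849a1094e3c003938746a21111430cb3565549360c8a01826cf3906bc2b708b5d022ced206404880d58f9e8b2ed5f8f, nat_lit 0x507553d53008365c312b884cda141c0c2885e1191e1469abe30249242ec5bbb269d14338451b95a59d151a1d31b1ef05bf3e6433058080a05705080]
noncomputable def P (k i : ℕ) : ℕ := lk (nth (nat_lit 0) Pd k) (nat_lit 7) (nat_lit 127) i
noncomputable def B : List ℕ := [nat_lit 0, nat_lit 1, nat_lit 2, nat_lit 3, nat_lit 4, nat_lit 27]
noncomputable def r (k j : ℕ) : ℕ := lk (nat_lit 0x19c594a5216054743e1c8c8000a5f1283a12018e0120b00000004a140bc103b010040000000285425010e0100b000000000040440005050240000000000001048300400000000000000000004010040000000000000000040400000000000000000000000040000000000000000000000) (nat_lit 9) (nat_lit 511) (Nat.add (Nat.mul k (nat_lit 10)) j)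
noncomputable def sq (c f : ℕ) : ℕ := lk (nat_lit 0xa698615d779ea698615d779e5d779e820a285d779e820a28861a695967df861a695967df5967dfa288205967dfa288202080002490002080002490002490000412492490000412490002082080410002082080412080412490412080412490412080000002492080000002492490002080002490002080002080002490002080002490000002492080000002492080008e3aeb55571c8e3aeb55571c71c5558e3aeb71c5558e3aeb8e3aeb71c5558e3aeb71c55555571c8e3aeb55571c8e3aeb10430c14530c14534d10434debacf3cb2ebaefbcb2cf3efbcf3efbefbcb2cb2ebaebacf314530c10430c10434d14534d4d36dbb2c96549269ab6d9246db492b2c92469a4d3b6d965b6d96569a4d3b2c9246db492b2c9654d36dbb6d92449269abef9e7659410bae9a66184519e7bae6594519a6bef6184106594519e7bae6184109a6bef618451bae9a6659410bef9e7efbcf3cf3ebaebacb2cb2efb14530c10430c10434d14534d10430c14530c14534d10434dcb2efbebacb2cf3ebaefbcf3fbefff000000ffffbe041041db6db6000041df7df7041000000041db6db6041000df7df7041041ffffbe000000fbeffffbefffdb6db6ffffbedf7df7041041000041000000041000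000041041041041000000000df7df7ffffbedb6db6fbefff000041041041041000000000ffffffdf7db6fbefbedb6df7db6df7fbefbedf7db6ffffff04104100004100000004100028a2cbf7df7d2cb28af3cf3c082082f7df3c0c30c3f3cf7df3cf7d0c30c3f7df3c082082f7df7d28a2cbf3cf3c2cb28a000000249208000000249208000041000000000041000000000000000041000000000041249208000000249208000000000000ffffbe000000ffffbedb6df7000000db6df7000000000000db6df7000000db6df7ffffbe000000ffffbe0000002cb2cbf3cf7d2cb2cbf3cf7df3cf7d082082f3cf7d0820820c30c3f7df3c0c30c3f7df3cf7df3c28a28af7df3c28a28a041041041000041041041000041000208208041000208208249249000041249249000041000041000000000041000000) (nat_lit 6) (nat_lit 63) (Nat.add (Nat.mul c (nat_lit 64)) f)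
noncomputable def nk (c f : ℕ) : ℕ := lk (nat_lit 0x1111111111111111111111111111111111111111111111111111111111111111111111111111111111111111111111111111111111111111111111111111111111111111111111111111111111111111111111111111111111111111111111111111111111111111111111111111111111111111111111111111111111111111111111111111111111111111111111111111111111111111111111111111111111111111111111111111111111111111111111111111111111111111111111111111111111111111111111111111111111111111111111111111111111111111111111111111111111111111111111111111111111111111111111111111111111112222111122222222111122221111111122221111222222221111222211111111222211112222332211113322111111113322111133222222111122221111111133221111332222221111222211111111222211112222332211113322111111112222111122222222111122221111111122221111222222221111222211112222111122221111111122441111224422441111224411111111222211112222222211112222111111112222111122222222111122221111111122221111222222221111222211111111222211112222222211112222111111112222111122222277111122771111111122221111222222221111222211111111228811112200)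 (nat_lit 4) (nat_lit 15) (Nat.add (Nat.mul c (nat_lit 2)) f)
noncomputable def fs : List (List ℕ) := [[nat_lit 4],
  [nat_lit 104],
  [nat_lit 531],
  [nat_lit 923],
  [nat_lit 580],
  [nat_lit 0x3eb]]


theorem simple {G Ω : Type*} [Group G] [Finite G] [MulAction G Ω] {g : ℕ → G} {pt : ℕ → Ω}
    (h : Mod g pt H15.Co3.P 276 7 H15.Co3.B) (hc : Nat.card G = 495766656000) (S : Sylow 2 G) :
    (Cfsg.groupFusionSystem (S : Subgroup G)).IsSimple 2 := by
  have hs := h.res (n := 6 + 4) (Ws := Ws) (P' := P) (idx := idx) (N' := 68) (B' := B)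
    (by decide +kernel) (by decide +kernel)
  have hp := hs.pc (r := r) (by decide +kernel) (by decide +kernel)
  have hd := hs.pd hp (nk := nk) (sq := sq) (fs := fs) (by decide +kernel) (by decide +kernel)
    (by decide +kernel)
  refine PD.simple (d := 3) (o := 484147125) hd (hc.trans (by norm_num)) (by decide) (fun T hT k0 => ?_)
    (cs := nth 0 [nat_lit 4, nat_lit 2, nat_lit 1]) (by decide +kernel) S
  have k1 := h.step (A' := [nat_lit 0, nat_lit 5, nat_lit 6, nat_lit 7, nat_lit 8]) hT k0 [nat_lit 0, nat_lit 2, nat_lit 4, nat_lit 5, nat_lit 2, nat_lit 3, nat_lit 2, nat_lit 3, nat_lit 4, nat_lit 5, nat_lit 6, nat_lit 4, nat_lit 3, nat_lit 0, nat_lit 1, nat_lit 2, nat_lit 0, nat_lit 2, nat_lit 3, nat_lit 4, nat_lit 5, nat_lit 3, nat_lit 2, nat_lit 3, nat_lit 4, nat_lit 3, nat_lit 2, nat_lit 0, nat_lit 2, nat_lit 1, nat_lit 2, nat_lit 3] (by decide +kernel)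
  have k2 := h.step (A' := [nat_lit 2, nat_lit 5, nat_lit 6, nat_lit 8, nat_lit 9]) hT k0 [nat_lit 1, nat_lit 3, nat_lit 2, nat_lit 4, nat_lit 3, nat_lit 2, nat_lit 5, nat_lit 2, nat_lit 4, nat_lit 3, nat_lit 2, nat_lit 1, nat_lit 2, nat_lit 3, nat_lit 4, nat_lit 5, nat_lit 1, nat_lit 2, nat_lit 3, nat_lit 4, nat_lit 2, nat_lit 0, nat_lit 2, nat_lit 3, nat_lit 2, nat_lit 0] (by decide +kernel)
  have k3 := h.step (A' := [nat_lit 0, nat_lit 1, nat_lit 5, nat_lit 6, nat_lit 7]) hT k0 [nat_lit 2, nat_lit 6, nat_lit 3, nat_lit 2, nat_lit 0, nat_lit 2, nat_lit 3, nat_lit 4, nat_lit 5, nat_lit 6, nat_lit 5, nat_lit 2, nat_lit 0, nat_lit 2, nat_lit 3, nat_lit 4, nat_lit 5, nat_lit 0, nat_lit 2, nat_lit 3, nat_lit 0] (by decide +kernel)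
  have k4 := h.step (A' := [nat_lit 1, nat_lit 3, nat_lit 6]) hT (app_mem k1 k2) [nat_lit 6, nat_lit 3, nat_lit 4, nat_lit 2, nat_lit 3, nat_lit 0, nat_lit 2, nat_lit 3, nat_lit 2, nat_lit 3, nat_lit 4, nat_lit 5, nat_lit 6, nat_lit 4, nat_lit 5, nat_lit 3, nat_lit 2, nat_lit 3, nat_lit 2, nat_lit 3, nat_lit 4, nat_lit 5, nat_lit 0, nat_lit 2, nat_lit 0, nat_lit 2, nat_lit 3, nat_lit 4, nat_lit 0, nat_lit 2, nat_lit 0, nat_lit 2, nat_lit 0, nat_lit 2, nat_lit 3] (by decide +kernel)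
  have l0 := h.step (A' := pw 0 6 10 ++ [6 + 0]) hT k4 [] (by decide +kernel)
  have l1 := h.step (A' := pw 0 6 41 ++ [6 + 1]) hT (app_mem k3 k4) [] (by decide +kernel)
  have l2 := h.step (A' := pw 0 6 9 ++ [6 + 2]) hT (app_mem k1 k3) [] (by decide +kernel)
  have l3 := h.step (A' := pw 0 6 48 ++ [6 + 3]) hT (app_mem k1 (app_mem k2 (app_mem k3 k4))) [] (by decide +kernel)
  intro j hj
  interval_cases j
  exacts [⟨_, l0⟩, ⟨_, l1⟩, ⟨_, l2⟩, ⟨_, l3⟩]

end H25.SCo3
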