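import Cfsg.Agent.H25.PC
import Cfsg.Agent.H16.M.J2

/-! Generated certificate: the 2-fusion system of J2 is simple. -/

set_option maxRecDepth 100000

namespace H25.SJ2
open H16

noncomputable def Ws : List (List ℕ) := [[nat_lit 2, nat_lit 4, nat_lit 2, nat_lit 0, nat_lit 2, nat_lit 0, nat_lit 0, nat_lit 3, nat_lit 2, nat_lit 1, nat_lit 2, nat_lit 4, nat_lit 2],
  [nat_lit 0, nat_lit 0, nat_lit 3, nat_lit 2, nat_lit 4, nat_lit 2, nat_lit 4, nat_lit 3, nat_lit 4],
  [nat_lit 1, nat_lit 2, nat_lit 1, nat_lit 2, nat_lit 1, nat_lit 2, nat_lit 3, nat_lit 2, nat_lit 1, nat_lit 2, nat_lit 0, nat_lit 0, nat_lit 4, nat_lit 2, nat_lit 1, nat_lit 2, nat_lit 0],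
  [nat_lit 4, nat_lit 2, nat_lit 1, nat_lit 2, nat_lit 3, nat_lit 2, nat_lit 4, nat_lit 2, nat_lit 0, nat_lit 2, nat_lit 0, nat_lit 3, nat_lit 2, nat_lit 4],
  [nat_lit 1, nat_lit 3, nat_lit 2, nat_lit 4, nat_lit 2, nat_lit 0, nat_lit 3],
  [nat_lit 2, nat_lit 1, nat_lit 2, nat_lit 0, nat_lit 3, nat_lit 2, nat_lit 4, nat_lit 2, nat_lit 1, nat_lit 4, nat_lit 2, nat_lit 3, nat_lit 1],
  [nat_lit 0, nat_lit 2, nat_lit 1, nat_lit 2, nat_lit 4, nat_lit 2, nat_lit 1, nat_lit 2, nat_lit 3, nat_lit 2, nat_lit 0]]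
noncomputable def idx (i : ℕ) : ℕ := lk (nat_lit 0x64c78b0e0bd72ddab35eb55a9467ce992e549911e345890e14180fdebc76e9cb86ed5a3364c582f5cb15aa52a13a64a911a1407cf1d325cb12224078e1a3058a12203860a10080) (nat_lit 7) (nat_lit 127) (i)
noncomputable def Pd : List ℕ := [nat_lit 0x4c94aa71e3449b240c0a2802c9c35a78e0664699af620119472edba470a5fa11881705993e7306b1162a2ef88bd90e8b043e666b4831ce87960a52b842248a20f14188c3a2b6, nat_lit 0x6efdda77901b2f8d1cb441af474a9cfa14b9a3101b9f251945455328904529034cceb098c56856a883b93e7948b70ac0842f15934040d72c0d061ba3828008423d218244cc89, nat_lit 0x19352b58d050810c3e408044468e767d7475ac5416741d3840afcd2a32719499e91eb346acaa098284b03c5e1298addc347cbe71894f05b6070c9a63b116220049c949700d90, nat_lit 0x5eb049440466b10a90d1f524e12e2028139011434f90ec24c78d8dc64d0c3a5332e04768e1083305e70f442250e6e0463588ae4a716a06ad54f4e968278abe7ecc9236071d32, nat_lit 0x705529751290b754e5d3481089c3768ce247f1634f9040f4406b4d864cb99092d1d4cb3ebe6bc7c524924ed48bd620460898ae7228280eb60a38699161161800c078a6608d07,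 nat_lit 0x250653435354a84cc599e644273b1c8962b803c0a40674c4c8b0e32f602413d785a4c8291c9b808f8e191111b210b2d03514a86a74b3c04274fca860e5d71f1630da36eb5c91, nat_lit 0x42e22cc5ce464e382d93e551d820368a3112c261ad0ee919480648027e1a4376d29e134eb178e6a7988d15125834b2669810540b448f47cf52a1980245d59f4c760848415d9a]
noncomputable def P (k i : ℕ) : ℕ := lk (nth (nat_lit 0) Pd k) (nat_lit 7) (nat_lit 127) i
noncomputable def B : List ℕ := [nat_lit 0, nat_lit 79, nat_lit 76, nat_lit 47]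
noncomputable def r (k j : ℕ) : ℕ := lk (nat_lit 0x389d24504200050a1420400002450c10000011030000000010c0000000000040000000000) (nat_lit 6) (nat_lit 63) (Nat.add (Nat.mul k (nat_lit 7)) j)
noncomputable def sq (c f : ℕ) : ℕ := lk (nat_lit 0x9988aabb8899aabb0000333300002222ddccffeeffeeccdd22220000000033337766776655444455222233330000000000111100110011001111111111110000) (nat_lit 4) (nat_lit 15) (Nat.add (Nat.mul c (nat_lit 16)) f)
noncomputable def nk (c f : ℕ) : ℕ := lk (nat_lit 0x2492492492494924924924922492492492494924924924922492492492496db6db4924922492492492494924926db900) (nat_lit 3) (nat_lit 7) (Nat.add (Nat.mul c (nat_lit 2)) f)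
noncomputable def fs : List (List ℕ) := [[nat_lit 10],
  [nat_lit 99],
  [nat_lit 50],
  [nat_lit 119]]
noncomputable def nq (c f : ℕ) : ℕ := lk (nat_lit 0x55555555aaaaaaaa55555555aaaaaaaa55555555ffffaaaa0000000000000000) (nat_lit 2) (nat_lit 3) (Nat.add (Nat.mul c (nat_lit 32)) f)
noncomputable def u : List ℕ := [nat_lit 0, nat_lit 0, nat_lit 2, nat_lit 1, nat_lit 2, nat_lit 0, nat_lit 2, nat_lit 1, nat_lit 3, nat_lit 2, nat_lit 0, nat_lit 2, nat_lit 1, nat_lit 4, nat_lit 2, nat_lit 1, nat_lit 2, nat_lit 0, nat_lit 3]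
noncomputable def v : List ℕ := [nat_lit 2, nat_lit 4, nat_lit 0, nat_lit 2, nat_lit 1, nat_lit 2, nat_lit 0, nat_lit 3, nat_lit 2, nat_lit 1, nat_lit 2, nat_lit 1, nat_lit 4, nat_lit 2, nat_lit 4, nat_lit 2, nat_lit 0, nat_lit 0, nat_lit 4]

theorem simple {G Ω : Type*} [Group G] [Finite G] [MulAction G Ω] {g : ℕ → G} {pt : ℕ → Ω}
    (h : Mod g pt H16.J2.P 100 5 H16.J2.B) (hc : Nat.card G = 604800) (S : Sylow 2 G) :
    (Cfsg.groupFusionSystem (S : Subgroup G)).IsSimple 2 := by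
  have hs := h.res (n := 4 + 3) (Ws := Ws) (P' := P) (idx := idx) (N' := 80) (B' := B)
    (by decide +kernel) (by decide +kernel)
  have hp := hs.pc (r := r) (by decide +kernel) (by decide +kernel)
  have hd := hs.pd hp (nk := nk) (sq := sq) (fs := fs) (by decide +kernel) (by decide +kernel)
    (by decide +kernel)
  refine hd.simple₃ (o := 4725) (c := 6) (c' := 4) (f := 10) (f' := 2) (hc.trans (by norm_num)) (by decide)
    (fun T hT k0 => ?_) (by decide +kernel) (hs.cen hp (lo := 4 + 1) (cnt := 2) (nk := nq) (by decide +kernel))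
    (h.mem_nz' (c := u) (r := nth 0 [nat_lit 1, nat_lit 31, nat_lit 5, nat_lit 12, nat_lit 20]) (by decide +kernel))
    (h.mem_nz' (c := v) (r := nth 0 [nat_lit 1, nat_lit 30, nat_lit 8, nat_lit 4, nat_lit 16]) (by decide +kernel))
    (evA_append g v u ▸ h.mem_nz (r := nth 0 [nat_lit 1, nat_lit 3, nat_lit 12, nat_lit 5, nat_lit 20, nat_lit 74, nat_lit 98]) (by decide +kernel))
    (evA_append g v u ▸ h.conj (by decide +kernel)) (evA_append g v u ▸ h.conj (by decide +kernel)) S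
  have k1 := h.step (A' := [nat_lit 4]) hT k0 [nat_lit 2, nat_lit 4, nat_lit 2, nat_lit 0, nat_lit 0, nat_lit 3, nat_lit 4, nat_lit 2, nat_lit 1, nat_lit 2, nat_lit 4] (by decide +kernel)
  have k2 := h.step (A' := [nat_lit 1]) hT k0 [nat_lit 3, nat_lit 2, nat_lit 1, nat_lit 2, nat_lit 4, nat_lit 2, nat_lit 0, nat_lit 3] (by decide +kernel)
  have k3 := h.step (A' := [nat_lit 3, nat_lit 5]) hT (app_mem k2 k1) [nat_lit 2, nat_lit 3, nat_lit 2, nat_lit 0, nat_lit 2, nat_lit 0, nat_lit 3] (by decide +kernel)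
  have k4 := h.step (A' := [nat_lit 6]) hT k3 [nat_lit 2, nat_lit 4, nat_lit 2, nat_lit 1, nat_lit 2, nat_lit 1, nat_lit 2, nat_lit 0, nat_lit 2, nat_lit 4, nat_lit 2] (by decide +kernel)
  have l0 := h.step (A' := pw 0 4 0 ++ [4 + 0]) hT k1 [] (by decide +kernel)
  have l1 := h.step (A' := pw 0 4 8 ++ [4 + 1]) hT k3 [] (by decide +kernel)
  have l2 := h.step (A' := pw 0 4 0 ++ [4 + 2]) hT k4 [] (by decide +kernel)
  intro j hj
  interval_cases j
  exacts [⟨_, l0⟩, ⟨_, l1⟩, ⟨_, l2⟩]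

end H25.SJ2
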