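import Cfsg.Agent.H25.PC
import Cfsg.Agent.H15.M.M11

/-! Generated certificate: the 2-fusion system of M11 is simple. -/

set_option maxRecDepth 100000

namespace H25.SM11
open H16

noncomputable def Ws : List (List ℕ) := [[nat_lit 2, nat_lit 4, nat_lit 0, nat_lit 2, nat_lit 5, nat_lit 1],
  [nat_lit 0, nat_lit 4, nat_lit 5, nat_lit 2, nat_lit 5],
  [nat_lit 0, nat_lit 3, nat_lit 4, nat_lit 6, nat_lit 0, nat_lit 2],
  [nat_lit 0, nat_lit 3, nat_lit 6, nat_lit 3, nat_lit 4, nat_lit 5, nat_lit 0]]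
noncomputable def idx (i : ℕ) : ℕ := lk (nat_lit 0x62506b12820c41) (nat_lit 5) (nat_lit 31) (i)
noncomputable def Pd : List ℕ := [nat_lit 0x2416385970, nat_lit 0x5746219380, nat_lit 0x5470982316, nat_lit 0x8520731496]
noncomputable def P (k i : ℕ) : ℕ := lk (nth (nat_lit 0) Pd k) (nat_lit 4) (nat_lit 15) i
noncomputable def B : List ℕ := [nat_lit 0, nat_lit 1, nat_lit 2, nat_lit 3]
noncomputable def r (k j : ℕ) : ℕ := lk (nat_lit 0x54b019008000) (nat_lit 3) (nat_lit 7) (Nat.add (Nat.mul k (nat_lit 4)) j)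
noncomputable def sq (c f : ℕ) : ℕ := lk (nat_lit 0x55fa0050) (nat_lit 2) (nat_lit 3) (Nat.add (Nat.mul c (nat_lit 4)) f)
noncomputable def nk (c f : ℕ) : ℕ := lk (nat_lit 0x55aa55a0) (nat_lit 2) (nat_lit 3) (Nat.add (Nat.mul c (nat_lit 2)) f)
noncomputable def fs : List (List ℕ) := [[nat_lit 2],
  [nat_lit 8]]

theorem simple {G Ω : Type*} [Group G] [Finite G] [MulAction G Ω] {g : ℕ → G} {pt : ℕ → Ω}
    (h : Mod g pt H15.MM11.P 24 7 H15.MM11.B) (hc : Nat.card G = 7920) (S : Sylow 2 G) :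
    (Cfsg.groupFusionSystem (S : Subgroup G)).IsSimple 2 := by
  have hs := h.res (n := 2 + 2) (Ws := Ws) (P' := P) (idx := idx) (N' := 10) (B' := B)
    (by decide +kernel) (by decide +kernel)
  have hp := hs.pc (r := r) (by decide +kernel) (by decide +kernel)
  have hd := hs.pd hp (nk := nk) (sq := sq) (fs := fs) (by decide +kernel) (by decide +kernel)
    (by decide +kernel)
  refine PD.simple (d := 1) (o := 495) hd (hc.trans (by norm_num)) (by decide) (fun T hT k0 => ?_)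
    (cs := nth 0 [nat_lit 1]) (by decide +kernel) S
  have k1 := h.step (A' := [nat_lit 2]) hT k0 [nat_lit 5, nat_lit 0, nat_lit 6, nat_lit 1] (by decide +kernel)
  have k2 := h.step (A' := [nat_lit 1, nat_lit 2]) hT k0 [nat_lit 0, nat_lit 2, nat_lit 4, nat_lit 2, nat_lit 6, nat_lit 2] (by decide +kernel)
  have k3 := h.step (A' := [nat_lit 2, nat_lit 3]) hT (app_mem k2 k1) [nat_lit 4, nat_lit 2, nat_lit 5, nat_lit 2, nat_lit 6, nat_lit 1] (by decide +kernel)
  have l0 := h.step (A' := pw 0 2 0 ++ [2 + 0]) hT k1 [] (by decide +kernel)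
  have l1 := h.step (A' := pw 0 2 0 ++ [2 + 1]) hT (app_mem k1 k3) [] (by decide +kernel)
  intro j hj
  interval_cases j
  exacts [⟨_, l0⟩, ⟨_, l1⟩]

end H25.SM11
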