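import Cfsg.Agent.H25.PC
import Cfsg.Agent.H15.M.M12

/-! Generated certificate: the 2-fusion system of M12 is simple. -/

set_option maxRecDepth 100000

namespace H25.SM12
open H16

noncomputable def Ws : List (List ℕ) := [[nat_lit 4, nat_lit 7, nat_lit 0, nat_lit 4, nat_lit 7, nat_lit 0, nat_lit 4],
  [nat_lit 6, nat_lit 3, nat_lit 4, nat_lit 5, nat_lit 0, nat_lit 0, nat_lit 6, nat_lit 5],
  [nat_lit 0, nat_lit 0, nat_lit 4, nat_lit 0, nat_lit 7, nat_lit 4, nat_lit 1],
  [nat_lit 5, nat_lit 3, nat_lit 5, nat_lit 6, nat_lit 1],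
  [nat_lit 6, nat_lit 4, nat_lit 5, nat_lit 3, nat_lit 6],
  [nat_lit 2, nat_lit 7]]
noncomputable def idx (i : ℕ) : ℕ := lk (nat_lit 0x18941ac4a0c418820) (nat_lit 5) (nat_lit 31) (i)
noncomputable def Pd : List ℕ := [nat_lit 0x503874b6921a, nat_lit 0xba3784569120, nat_lit 0xa5478903612b, nat_lit 0x5a9124b63780, nat_lit 0xba4129536870, nat_lit 0x69a78b450123]
noncomputable def P (k i : ℕ) : ℕ := lk (nth (nat_lit 0) Pd k) (nat_lit 4) (nat_lit 15) i
noncomputable def B : List ℕ := [nat_lit 0, nat_lit 1, nat_lit 2, nat_lit 3, nat_lit 4]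
noncomputable def r (k j : ℕ) : ℕ := lk (nat_lit 0x59041840241803000051040000460000000040000000) (nat_lit 5) (nat_lit 31) (Nat.add (Nat.mul k (nat_lit 6)) j)
noncomputable def sq (c f : ℕ) : ℕ := lk (nat_lit 0xff6ff692db642402400092400000006db492000000249000) (nat_lit 3) (nat_lit 7) (Nat.add (Nat.mul c (nat_lit 8)) f)
noncomputable def nk (c f : ℕ) : ℕ := lk (nat_lit 0x2492492492492492492492494924926db6db4924926dbb40) (nat_lit 3) (nat_lit 7) (Nat.add (Nat.mul c (nat_lit 2)) f)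
noncomputable def fs : List (List ℕ) := [[nat_lit 36],
  [nat_lit 19],
  [nat_lit 55]]

theorem simple {G Ω : Type*} [Group G] [Finite G] [MulAction G Ω] {g : ℕ → G} {pt : ℕ → Ω}
    (h : Mod g pt H15.MM12.P 24 8 H15.MM12.B) (hc : Nat.card G = 95040) (S : Sylow 2 G) :
    (Cfsg.groupFusionSystem (S : Subgroup G)).IsSimple 2 := by
  have hs := h.res (n := 3 + 3) (Ws := Ws) (P' := P) (idx := idx) (N' := 12) (B' := B)
    (by decide +kernel) (by decide +kernel)
  have hp := hs.pc (r := r) (by decide +kernel) (by decide +kernel)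
  have hd := hs.pd hp (nk := nk) (sq := sq) (fs := fs) (by decide +kernel) (by decide +kernel)
    (by decide +kernel)
  refine PD.simple (d := 2) (o := 1485) hd (hc.trans (by norm_num)) (by decide) (fun T hT k0 => ?_)
    (cs := nth 0 [nat_lit 3, nat_lit 2]) (by decide +kernel) S
  have k1 := h.step (A' := [nat_lit 3]) hT k0 [nat_lit 4, nat_lit 1, nat_lit 6, nat_lit 0, nat_lit 3, nat_lit 7, nat_lit 4, nat_lit 6] (by decide +kernel)
  have k2 := h.step (A' := [nat_lit 3, nat_lit 4]) hT k0 [nat_lit 4, nat_lit 2, nat_lit 7, nat_lit 4, nat_lit 2] (by decide +kernel)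
  have k3 := h.step (A' := [nat_lit 1, nat_lit 5]) hT (app_mem k1 k2) [nat_lit 6, nat_lit 2, nat_lit 4, nat_lit 5, nat_lit 0, nat_lit 7, nat_lit 4, nat_lit 7, nat_lit 3] (by decide +kernel)
  have l0 := h.step (A' := pw 0 3 0 ++ [3 + 0]) hT k1 [] (by decide +kernel)
  have l1 := h.step (A' := pw 0 3 0 ++ [3 + 1]) hT (app_mem k1 k2) [] (by decide +kernel)
  have l2 := h.step (A' := pw 0 3 2 ++ [3 + 2]) hT k3 [] (by decide +kernel)
  intro j hj
  interval_cases j
  exacts [⟨_, l0⟩, ⟨_, l1⟩, ⟨_, l2⟩]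

end H25.SM12
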