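import Cfsg.Agent.H25.PC
import Cfsg.Agent.H15.M.M22

/-! Generated certificate: the 2-fusion system of M22 is simple. -/

set_option maxRecDepth 100000

namespace H25.SM22
open H16

noncomputable def Ws : List (List ℕ) := [[nat_lit 7, nat_lit 8, nat_lit 7, nat_lit 6, nat_lit 0, nat_lit 7, nat_lit 6, nat_lit 2, nat_lit 8, nat_lit 7, nat_lit 6, nat_lit 0, nat_lit 2],
  [nat_lit 8, nat_lit 0, nat_lit 5, nat_lit 6, nat_lit 3, nat_lit 6, nat_lit 7, nat_lit 6, nat_lit 2, nat_lit 8, nat_lit 7, nat_lit 3],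
  [nat_lit 6, nat_lit 8, nat_lit 6],
  [nat_lit 3, nat_lit 7, nat_lit 6, nat_lit 1, nat_lit 5, nat_lit 8, nat_lit 7],
  [nat_lit 8, nat_lit 3, nat_lit 6, nat_lit 2, nat_lit 7, nat_lit 6, nat_lit 3, nat_lit 6, nat_lit 8, nat_lit 7, nat_lit 6, nat_lit 5],
  [nat_lit 8, nat_lit 6, nat_lit 3, nat_lit 6, nat_lit 7, nat_lit 6, nat_lit 8, nat_lit 7, nat_lit 6, nat_lit 4, nat_lit 1],
  [nat_lit 0, nat_lit 6, nat_lit 1, nat_lit 6, nat_lit 0, nat_lit 8]]
noncomputable def idx (i : ℕ) : ℕ := lk (nat_lit 0x18b5693945cb51cc520c41) (nat_lit 5) (nat_lit 31) (i)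
noncomputable def Pd : List ℕ := [nat_lit 0xb614f9a30e2c85d7, nat_lit 0x6f57e8394b10ad2c, nat_lit 0x397286ebda45fc01, nat_lit 0xef41683a5b7d90c2, nat_lit 0xd23e14c0f5a6798b, nat_lit 0x5db9270431eac6f8, nat_lit 0xfa74be68d92c3501]
noncomputable def P (k i : ℕ) : ℕ := lk (nth (nat_lit 0) Pd k) (nat_lit 4) (nat_lit 15) i
noncomputable def B : List ℕ := [nat_lit 0, nat_lit 1, nat_lit 2, nat_lit 4, nat_lit 3]
noncomputable def r (k j : ℕ) : ℕ := lk (nat_lit 0xa943441c100350f180080004240185000000103040000000081000000001000000000000) (nat_lit 6) (nat_lit 63) (Nat.add (Nat.mul k (nat_lit 7)) j)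
noncomputable def sq (c f : ℕ) : ℕ := lk (nat_lit 0xaaeebbffffaaeebb88cc99dd88dd99cc550055004400440000550055440044001111000000111100777766663322223311111111554455440000000011001100) (nat_lit 4) (nat_lit 15) (Nat.add (Nat.mul c (nat_lit 16)) f)
noncomputable def nk (c f : ℕ) : ℕ := lk (nat_lit 0x2492492492492492492492492492492492492492492492492492494924922492494924922492496db6db2492496ed6c0) (nat_lit 3) (nat_lit 7) (Nat.add (Nat.mul c (nat_lit 2)) f)
noncomputable def fs : List (List ℕ) := [[nat_lit 24],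
  [nat_lit 35],
  [nat_lit 66],
  [nat_lit 111]]

theorem simple {G Ω : Type*} [Group G] [Finite G] [MulAction G Ω] {g : ℕ → G} {pt : ℕ → Ω}
    (h : Mod g pt H15.MM22.P 24 9 H15.MM22.B) (hc : Nat.card G = 443520) (S : Sylow 2 G) :
    (Cfsg.groupFusionSystem (S : Subgroup G)).IsSimple 2 := by
  have hs := h.res (n := 4 + 3) (Ws := Ws) (P' := P) (idx := idx) (N' := 16) (B' := B)
    (by decide +kernel) (by decide +kernel)
  have hp := hs.pc (r := r) (by decide +kernel) (by decide +kernel)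
  have hd := hs.pd hp (nk := nk) (sq := sq) (fs := fs) (by decide +kernel) (by decide +kernel)
    (by decide +kernel)
  refine PD.simple (d := 2) (o := 3465) hd (hc.trans (by norm_num)) (by decide) (fun T hT k0 => ?_)
    (cs := nth 0 [nat_lit 1, nat_lit 2]) (by decide +kernel) S
  have k1 := h.step (A' := [nat_lit 4, nat_lit 5]) hT k0 [nat_lit 8, nat_lit 1, nat_lit 4, nat_lit 6, nat_lit 2, nat_lit 0] (by decide +kernel)
  have k2 := h.step (A' := [nat_lit 6]) hT k0 [nat_lit 2, nat_lit 5, nat_lit 6, nat_lit 1, nat_lit 8, nat_lit 7, nat_lit 6, nat_lit 0, nat_lit 3] (by decide +kernel)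
  have k3 := h.step (A' := [nat_lit 4, nat_lit 6]) hT k0 [nat_lit 6, nat_lit 2, nat_lit 8, nat_lit 6] (by decide +kernel)
  have l0 := h.step (A' := pw 0 4 4 ++ [4 + 0]) hT (app_mem k2 k3) [] (by decide +kernel)
  have l1 := h.step (A' := pw 0 4 7 ++ [4 + 1]) hT (app_mem k1 (app_mem k2 k3)) [] (by decide +kernel)
  have l2 := h.step (A' := pw 0 4 0 ++ [4 + 2]) hT k2 [] (by decide +kernel)
  intro j hj
  interval_cases j
  exacts [⟨_, l0⟩, ⟨_, l1⟩, ⟨_, l2⟩]

end H25.SM22
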